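import Mathlib
import Cfsg.Agent.St.Split
import Cfsg.Agent.FGS.Pronormal
import Cfsg.Agent.KSG.SymSylow2
import Cfsg.Agent.Solv.CoprimeSylow
import Cfsg.Agent.JTW.PSLFactsAux
import Cfsg.Agent.S3820
import Cfsg.Agent.S2431

/-!
Pronormality of overgroups of Sylow subgroups: general reductions, split Tits systems with
abelian torus, and groups all of whose involution centralizers are dihedral as in `L₂(q)`.
-/

set_option autoImplicit false
set_option linter.unusedSectionVars false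

namespace Cfsg.Agent.Class.Pron

open Subgroup Cfsg Cfsg.Agent.St Cfsg.Agent.Chev Cfsg.Agent.KSG.SymSyl

section General

variable {G G' : Type*} [Group G] [Group G'] {p : ℕ} [hp : Fact p.Prime]

/-- The normalizer of a Sylow `p`-subgroup normalizes all its overgroups containing `Z`. -/
def OvN (p : ℕ) {G : Type*} [Group G] (Z : Subgroup G) : Prop :=
  ∀ (S : Sylow p G) (H : Subgroup G), (S : Subgroup G) ≤ H → Z ≤ H →
    ∀ g ∈ normalizer ((S : Subgroup G) : Set G), ∀ h ∈ H, g * h * g⁻¹ ∈ H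

theorem OvN.of_one [Finite G] {Z : Subgroup G} [hZ : Z.Normal] (S : Sylow p G)
    (h : ∀ H : Subgroup G, (S : Subgroup G) ≤ H → Z ≤ H →
      ∀ g ∈ normalizer ((S : Subgroup G) : Set G), ∀ h ∈ H, g * h * g⁻¹ ∈ H) : OvN p Z := by
  intro S' H hS hZH g hg y hy
  obtain ⟨c, rfl⟩ := MulAction.exists_smul_eq G S S'
  have := h (H.comap (MulAut.conj c).toMonoidHom)
    (fun s hs => hS (smul_mem_pointwise_smul _ (MulAut.conj c) _ hs))
    (fun z hz => hZH (hZ.conj_mem z hz c)) (c⁻¹ * g * c) (by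
      refine Sylow.smul_eq_iff_mem_normalizer.1 ?_
      rw [mul_smul, mul_smul, Sylow.smul_eq_iff_mem_normalizer.2 hg, inv_smul_smul]) (c⁻¹ * y * c) (by simpa [mul_assoc] using hy)
  simpa [mul_assoc] using this

theorem OvN.comap [Finite G] (h : OvN p (⊥ : Subgroup G)) (j : G' →* G)
    (hj : Function.Injective j) (hi : ¬ p ∣ j.range.index) (Z : Subgroup G') : OvN p Z := by
  intro S H hS _ g hg y hy
  have : Finite G' := Finite.of_injective j hj
  have h1 : ¬ p ∣ ((S : Subgroup G').map j).index := by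
    rw [index_map_of_injective _ hj, hp.out.dvd_mul, not_or]
    exact ⟨S.not_dvd_index, hi⟩
  have := h ((S.isPGroup'.map j).toSylow h1) (H.map j) (map_mono hS) bot_le (j g)
    (le_normalizer_map j (mem_map_of_mem j hg)) (j y) (mem_map_of_mem j hy)
  rwa [← map_inv, ← map_mul, ← map_mul, mem_map_iff_mem hj] at this

theorem OvN.pronormal [Finite G] (π : G →* G') (hπ : Function.Surjective π) (h : OvN p π.ker)
    (H : Subgroup G') (hH : ¬ p ∣ H.index) : IsPronormal H := by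
  obtain ⟨S, hS⟩ := exists_sylow_le_of_not_dvd (p := p) (H := H.comap π)
    (by rwa [index_comap_of_surjective _ hπ])
  have : IsPronormal (H.comap π) := exists_conj_of_sylow_le S hS fun g hg =>
    mem_normalizer_fintype (h S _ hS (fun z hz => by
      rw [mem_comap, MonoidHom.mem_ker.1 hz]; exact one_mem _) g hg)
  have := FGS.IsPronormal.map this π hπ
  rwa [map_comap_eq_self_of_surjective hπ] at this

theorem mem_sylow_of_pow_pow (S : Sylow p G) {g : G}
    (hg : g ∈ normalizer ((S : Subgroup G) : Set G)) {k : ℕ} (h : g ^ p ^ k = 1) :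
    g ∈ (S : Subgroup G) := by
  have h1 : IsPGroup p (zpowers g) := Dickson.isPGroup_zpowers_of_pow h
  have h2 := S.is_maximal' (IsPGroup.to_sup_of_normal_left' S.isPGroup' h1 (zpowers_le.2 hg))
    le_sup_left
  rw [← h2]
  exact mem_sup_right (mem_zpowers g)

/-- If the `2'`-elements normalizing `S` lie in `Z`. -/
theorem OvN.of_odd [Finite G] {Z : Subgroup G} [Z.Normal] (S : Sylow 2 G)
    (h : ∀ g ∈ normalizer ((S : Subgroup G) : Set G), ∀ n, Odd n → g ^ n = 1 → g ∈ Z) :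
    OvN 2 Z := by
  refine OvN.of_one S fun H hS hZ g hg y hy => ?_
  obtain ⟨k, n, hn, e⟩ := Nat.exists_eq_two_pow_mul_odd (orderOf_pos g).ne'
  have h1 : g ^ n ∈ H := hS (mem_sylow_of_pow_pow S (pow_mem hg n) (k := k) (by
    rw [← pow_mul, mul_comm, ← e, pow_orderOf_eq_one]))
  have h2 : g ^ 2 ^ k ∈ H := hZ (h _ (pow_mem hg _) n hn (by
    rw [← pow_mul, ← e, pow_orderOf_eq_one]))
  have h3 : g ∈ H := by
    have hc : Nat.Coprime n (2 ^ k) := (Nat.coprime_two_right.2 hn).pow_right k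
    have := mul_mem (zpow_mem h1 (Nat.gcdA n (2 ^ k))) (zpow_mem h2 (Nat.gcdB n (2 ^ k)))
    rwa [← zpow_natCast, ← zpow_natCast, ← zpow_mul, ← zpow_mul, ← zpow_add, ← Nat.gcd_eq_gcd_ab,
      hc, Nat.cast_one, zpow_one] at this
  exact mul_mem (mul_mem h3 hy) (inv_mem h3)

end General

section BN

variable {p : ℕ} [hp : Fact p.Prime] {G ι W : Type*} [Group G] [Group W] (T : Split0 p G ι W)
  [Finite G]

theorem exists_rep {K : Subgroup G} (hU : T.U ≤ K) {n : G} (hn : n ∈ T.N) {i : ι}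
    (hL : LD T.s (T.wt n) i) (h : ∀ u ∈ T.U, n * u * n⁻¹ ∈ K) :
    ∃ r ∈ K, r ∈ T.N ∧ T.wt r = T.s i := by
  obtain ⟨x, hx, h1⟩ := T.exists_gen_mul_eq hL
  obtain ⟨b, hb, b', hb', e⟩ := T.exists_eq h1.symm
  obtain ⟨u, hu, t, ht, rfl⟩ := T.exists_UH hb'
  have h2 : T.wt (n * u * n⁻¹) = T.s i := by
    rw [← hx, show x = b * ((n * u * n⁻¹) * (n * t * n⁻¹)) by
      rw [eq_mul_inv_of_mul_eq e]; group, T.wt_B_mul hb,
      T.wt_mul_B _ (T.conj_mem_H hn ht).1]
  obtain ⟨b₁, hb₁, r, hr, b₂, hb₂, h3, e2⟩ := T.exists_BNB (n * u * n⁻¹)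
  obtain ⟨u₁, hu₁, t₁, ht₁, rfl⟩ := T.exists_UH hb₁
  obtain ⟨t₂, ht₂, u₂, hu₂, rfl⟩ := T.exists_HU hb₂
  refine ⟨t₁ * r * t₂, ?_, mul_mem (mul_mem ht₁.2 hr) ht₂.2, ?_⟩
  · convert mul_mem (mul_mem (inv_mem (hU hu₁)) (h u hu)) (inv_mem (hU hu₂)) using 1
    rw [e2]; group
  · rw [T.wt_mul_B _ ht₂.1, T.wt_B_mul ht₁.1, h3, h2]

theorem conj_mem_of_U_le (hc : ∀ a ∈ T.H, ∀ b ∈ T.H, a * b = b * a) {M : Subgroup G}
    (hM : T.U ≤ M) {b : G} (hb : b ∈ T.B) {g : G} (hg : g ∈ M) : b * g * b⁻¹ ∈ M := by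
  let K : Subgroup G := ⨅ t ∈ T.H, M.comap (MulAut.conj t).toMonoidHom
  have hK : ∀ y, y ∈ K ↔ ∀ t ∈ T.H, t * y * t⁻¹ ∈ M := fun y => by simp [K, mem_iInf]
  have hU : T.U ≤ K := fun u hu => (hK u).2 fun t ht => hM (T.conj_U t ht.1 u hu)
  have hKM : K ≤ M := fun y hy => by simpa using (hK y).1 hy 1 (one_mem _)
  have key : ∀ k, ∀ n ∈ T.N, n ∈ M → wlen T.s (T.wt n) = k → n ∈ K := by
    intro k
    induction k using Nat.strong_induction_on with | h k ih => ?_
    intro n hn hnM hk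
    by_cases h1 : T.wt n = 1
    · refine (hK n).2 fun t ht => ?_
      rwa [hc t ht n ((T.mem_H_iff hn).2 h1), mul_inv_cancel_right]
    · obtain ⟨i, -, hi⟩ := T.cox.exists_LD (J := Set.univ) (by rw [T.cox.WJ_univ]; trivial) h1
      obtain ⟨r, hr, hrN, hr'⟩ := exists_rep T hU hn hi fun u hu => (hK _).2 fun t ht => by
        convert mul_mem (mul_mem hnM (hM (T.conj_U _ (T.conj_mem_H' hn ht).1 u hu))) (inv_mem hnM)
          using 1
        group
      have := ih _ (show _ < k by rw [← hk]; exact hi) (r⁻¹ * n) (mul_mem (inv_mem hrN) hn) (mul_mem (inv_mem (hKM hr)) hnM)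
        (by rw [T.wt_N_mul (inv_mem hrN) hn, T.wt_inv, hr', inv_eq_of_mul_eq_one_right (T.cox.sq i)])
      simpa using mul_mem hr this
  have h1 : g ∈ K := by
    obtain ⟨b₁, hb₁, r, hr, b₂, hb₂, -, e⟩ := T.exists_BNB g
    obtain ⟨u₁, hu₁, t₁, ht₁, rfl⟩ := T.exists_UH hb₁
    obtain ⟨t₂, ht₂, u₂, hu₂, rfl⟩ := T.exists_HU hb₂
    have := key _ (t₁ * r * t₂) (mul_mem (mul_mem ht₁.2 hr) ht₂.2) (by
      convert mul_mem (mul_mem (inv_mem (hM hu₁)) hg) (inv_mem (hM hu₂)) using 1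
      rw [e]; group) rfl
    convert mul_mem (mul_mem (hU hu₁) this) (hU hu₂) using 1
    rw [e]; group
  obtain ⟨u, hu, t, ht, rfl⟩ := T.exists_UH hb
  convert mul_mem (mul_mem (hM hu) ((hK g).1 h1 t ht)) (inv_mem (hM hu)) using 1
  group

theorem ovN_of_split (hc : ∀ a ∈ T.H, ∀ b ∈ T.H, a * b = b * a) : OvN p (⊥ : Subgroup G) := by
  obtain ⟨S, hS⟩ := T.exists_sylow
  refine OvN.of_one S fun H hH _ g hg y hy => ?_
  rw [hS] at hH hg
  rw [T.normalizer_U] at hg
  exact conj_mem_of_U_le T hc hH hg hy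

end BN

section Dih

open Cfsg.Agent.JTW.PA Cfsg.Agent.Class.Dickson

variable {G : Type*} [Group G] [Finite G]

theorem exists_odd_part (S : Sylow 2 G) {L : Subgroup G} (hS : (S : Subgroup G) ≤ L)
    (h : ∀ g ∈ L, g ∈ normalizer ((S : Subgroup G) : Set G) → ∀ s ∈ S, s * g = g * s) :
    ∃ O : Subgroup G, (∀ y, y ∈ O ↔ y ∈ L ∧ Odd (orderOf y)) ∧
      ∀ y ∈ L, ∃ s ∈ S, y * s⁻¹ ∈ O := by
  have hB : normalizer ((S.subtype hS : Subgroup L) : Set L) ≤
      centralizer ((S.subtype hS : Subgroup L) : Set L) := fun g hg k hk =>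
    Subtype.ext (h g g.2 (mem_normalizer_fintype fun y hy => (hg ⟨y, hS hy⟩).mp hy) k hk)
  have hc := MonoidHom.ker_transferSylow_isComplement' (S.subtype hS) hB
  set K := (MonoidHom.transferSylow (S.subtype hS) hB).ker with hK
  have hodd : Odd (Nat.card K) := by
    rw [← hc.index_eq_card]
    exact Nat.odd_iff.2 (Nat.two_dvd_ne_zero.1 (S.subtype hS).not_dvd_index)
  refine ⟨K.map L.subtype, fun y => ⟨?_, fun ⟨h1, h2⟩ => ⟨⟨y, h1⟩, ?_, rfl⟩⟩, fun y hy => ?_⟩
  · rintro ⟨g, hg, rfl⟩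
    refine ⟨g.2, ?_⟩
    rw [coe_subtype, orderOf_coe]
    exact hodd.of_dvd_nat (K.orderOf_dvd_natCard hg)
  · obtain ⟨k, hk⟩ := (S.subtype hS).isPGroup'.exists_card_eq
    have h3 : (⟨y, h1⟩ : L) ^ 2 ^ k ∈ K := by
      rw [← hk, ← hc.symm.index_eq_card]; exact K.pow_index_mem _
    have hc : Nat.Coprime (orderOf y) (2 ^ k) := (Nat.coprime_two_right.2 h2).pow_right k
    obtain ⟨m, hm⟩ := exists_pow_eq_self_of_coprime (x := (⟨y, h1⟩ : L)) (n := 2 ^ k)
      (by rw [← orderOf_coe]; exact hc.symm)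
    rw [← hm]
    exact pow_mem h3 m
  · obtain ⟨⟨k, s⟩, e⟩ := hc.2 (⟨y, hy⟩ : L)
    refine ⟨s.1.1, s.2, k.1, k.2, ?_⟩
    have : (k.1.1 : G) * s.1.1 = y := congrArg Subtype.val e
    rw [← this, mul_inv_cancel_right]; rfl

theorem exists_fixed {K : Subgroup G} (hK : K ≠ ⊥) {a b : G} (h : KleinPair a b)
    (ha : a ∈ normalizer (K : Set G)) (hb : b ∈ normalizer (K : Set G)) :
    ∃ v ∈ h.sub, v ≠ 1 ∧ ∃ x ∈ K, x ≠ 1 ∧ x * v = v * x := by
  have key : ∀ v ∈ normalizer (K : Set G), v * v = 1 → (∀ x ∈ K, x * v = v * x → x = 1) →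
      ∀ x ∈ K, v * x * v⁻¹ = x⁻¹ := fun v hv h1 h2 x hx => by
    have := MonoidHom.FixedPointFree.coe_eq_inv_of_involutive
      (φ := K.normalizerMonoidHom ⟨v, hv⟩) (fun y hy => Subtype.ext (h2 y y.2 (by
        have : v * y * v⁻¹ = y := congrArg Subtype.val hy
        exact (mul_inv_eq_iff_eq_mul.1 this).symm))) (fun y => Subtype.ext (by
        change v * (v * y * v⁻¹) * v⁻¹ = y
        rw [show v * (v * y * v⁻¹) * v⁻¹ = (v * v) * y * (v * v)⁻¹ by group, h1]; simp))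
    exact congrArg Subtype.val (congrFun this ⟨x, hx⟩)
  by_contra hn
  push Not at hn
  have h1 := key a ha h.sq_left fun x hx e => by
    by_contra h1; exact hn a (h.mem_sub.2 (by simp)) h.ne_one_left x hx h1 e
  have h2 := key b hb h.sq_right fun x hx e => by
    by_contra h1; exact hn b (h.mem_sub.2 (by simp)) h.ne_one_right x hx h1 e
  obtain ⟨x, hx, hx1⟩ := (K.bot_or_exists_ne_one).resolve_left hK
  refine hn (a * b) (h.mem_sub.2 (by simp)) h.mul_ne_one x hx hx1 ?_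
  have : a * b * x * (a * b)⁻¹ = x := by
    rw [show a * b * x * (a * b)⁻¹ = a * (b * x * b⁻¹) * a⁻¹ by group, h2 x hx,
      h1 _ (inv_mem hx), inv_inv]
  exact (mul_inv_eq_iff_eq_mul.1 this).symm

variable (hD : ∀ s : G, s ≠ 1 → s * s = 1 → ∃ n c, Dih ⊤ n s c)
  (hK : ∃ a b : G, KleinPair a b)
include hD hK

theorem mem_of_fix (S : Sylow 2 G) {z g : G} (h1 : z ≠ 1) (h2 : z * z = 1)
    (hz : ∀ s ∈ S, s * z = z * s) (hg : g ∈ normalizer ((S : Subgroup G) : Set G))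
    (h : g * z = z * g) : g ∈ (S : Subgroup G) := by
  obtain ⟨n, c, D⟩ := hD z h1 h2
  obtain ⟨a, b, K⟩ := hK
  obtain ⟨d, ha, hb⟩ := exists_conj_pair_mem_sylow (p := 2) (x := a) (y := b) (a := 1) (b := 1)
    (by simpa [sq] using K.sq_left) (by simpa [sq] using K.sq_right)
    (by rw [← K.comm, mul_inv_cancel_right]; exact mem_zpowers a) S
  obtain ⟨e, he, hec⟩ : ∃ e ∈ S, e ∉ zpowers c := by
    by_contra hn
    push Not at hn
    have K' := K.conj d
    exact K'.ne ((D.uniq _ (hn _ ha) K'.ne_one_left K'.sq_left).trans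
      (D.uniq _ (hn _ hb) K'.ne_one_right K'.sq_right).symm)
  refine S2431.mem_sylow_of_pow S hg ?_
  by_cases hgc : g ∈ zpowers c
  · have := D.inv e trivial (hz e he) hec _ (inv_mem hgc)
    convert mul_mem ((mem_normalizer_iff.1 hg e).1 he) (inv_mem he) using 1
    rw [mul_assoc, mul_assoc, ← mul_assoc e, this, inv_inv]
  · rw [D.sq g trivial h hgc]; exact one_mem _

theorem pronormal_of_dih (H : Subgroup G) (hH : Odd H.index) : IsPronormal H := by
  obtain ⟨S, hS⟩ := exists_sylow_le_of_not_dvd (p := 2) (H := H) hH.not_two_dvd_nat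
  refine (S3820.result S H hS (exists_conj_of_sylow_le S le_rfl le_rfl)).2 fun g hg => ?_
  set L := H ⊔ H.map (MulAut.conj g).toMonoidHom with hL
  by_cases hgL : g ∈ L
  · exact ⟨g, hgL, rfl⟩
  have hSL : (S : Subgroup G) ≤ L := hS.trans le_sup_left
  obtain ⟨z, hzS, hz1, hz2, hz⟩ : ∃ z ∈ S, z ≠ 1 ∧ z * z = 1 ∧ ∀ s ∈ S, s * z = z * s := by
    have : Nontrivial S := by
      obtain ⟨a, b, K⟩ := hK
      obtain ⟨d, ha, -⟩ := exists_conj_pair_mem_sylow (p := 2) (x := a) (y := 1) (a := 1) (b := 1)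
        (by simpa [sq] using K.sq_left) (by simp) (by simp) S
      exact ⟨⟨⟨_, ha⟩, 1, fun e => (K.conj d).ne_one_left (congrArg Subtype.val e)⟩⟩
    have := S.isPGroup'.center_nontrivial
    obtain ⟨k, hk0, hk⟩ := (S.isPGroup'.to_subgroup (center S)).nontrivial_iff_card.1 this
    obtain ⟨z, hz⟩ := exists_prime_orderOf_dvd_card' (G := center S) 2
      (hk ▸ dvd_pow_self 2 hk0.ne')
    rw [← orderOf_coe, ← orderOf_coe] at hz
    exact ⟨z.1.1, z.1.2, ne_one_of hz, mul_self_of hz, fun s hs =>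
      congrArg Subtype.val (mem_center_iff.1 z.2 ⟨s, hs⟩)⟩
  have hgS : g ∉ (S : Subgroup G) := fun h => hgL (hSL h)
  have conjS : ∀ w ∈ normalizer ((S : Subgroup G) : Set G), ∀ s ∈ S, w * s * w⁻¹ ∈ S :=
    fun w hw s hs => (mem_normalizer_iff.1 hw s).1 hs
  have hz' : g * z * g⁻¹ ≠ z := fun e =>
    hgS (mem_of_fix hD hK S hz1 hz2 hz hg (mul_inv_eq_iff_eq_mul.1 e))
  have K : KleinPair z (g * z * g⁻¹) :=
    ⟨hz1, by simpa using hz1, hz'.symm, hz2, by simp [mul_assoc, hz2, ← mul_assoc z],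
      (hz _ (conjS g hg z hzS)).symm⟩
  have hV : ∀ s, s ∈ S ↔ s ∈ K.sub := fun s => by
    refine ⟨fun hs => ?_, fun hs => ?_⟩
    · obtain ⟨n, c, D⟩ := hD z hz1 hz2
      refine D.cent_klein K trivial trivial (hz s hs) ?_
      have := hz _ (conjS _ (inv_mem hg) s hs)
      calc s * (g * z * g⁻¹) = g * (g⁻¹ * s * g⁻¹⁻¹ * z) * g⁻¹ := by group
        _ = _ := by rw [this]; group
    · rcases K.mem_sub.1 hs with rfl | rfl | rfl | rfl
      exacts [one_mem _, hzS, conjS g hg z hzS, mul_mem hzS (conjS g hg z hzS)]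
  have hcomm : ∀ s ∈ S, ∀ s' ∈ S, s * s' = s' * s := fun s hs s' hs' =>
    congrArg Subtype.val (K.isKleinFour.isMulCommutative.is_comm.comm
      (⟨s, (hV s).1 hs⟩ : K.sub) ⟨s', (hV s').1 hs'⟩)
  have hsq : ∀ s ∈ S, s * s = 1 := fun s hs => by
    rcases K.mem_sub.1 ((hV s).1 hs) with rfl | rfl | rfl | rfl
    exacts [one_mul _, hz2, K.sq_right, K.mul_sq]
  have fix : ∀ v ∈ S, v ≠ 1 → ∀ w ∈ normalizer ((S : Subgroup G) : Set G), w * v * w⁻¹ = v →
      w ∈ (S : Subgroup G) := fun v hv h1 w hw e =>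
    mem_of_fix hD hK S h1 (hsq v hv) (fun s hs => hcomm s hs v hv) hw (mul_inv_eq_iff_eq_mul.1 e)
  have hNL : ∀ w ∈ L, w ∈ normalizer ((S : Subgroup G) : Set G) → w ∈ (S : Subgroup G) := by
    intro w hwL hw
    have key : ∀ w ∈ L, w ∈ normalizer ((S : Subgroup G) : Set G) →
        w * z * w⁻¹ ≠ g * z * g⁻¹ := fun w hwL hw e => by
      have := fix z hzS hz1 (g⁻¹ * w) (mul_mem (inv_mem hg) hw) (by
        rw [show g⁻¹ * w * z * (g⁻¹ * w)⁻¹ = g⁻¹ * (w * z * w⁻¹) * g by group, e]; group)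
      exact hgL (by simpa using mul_mem hwL (inv_mem (hSL this)))
    by_contra hwS
    have h3 : w * z * w⁻¹ = z * (g * z * g⁻¹) := by
      rcases K.mem_sub.1 ((hV _).1 (conjS w hw z hzS)) with e | e | e | e
      · exact absurd (by simpa using e) hz1
      · exact absurd (fix z hzS hz1 w hw e) hwS
      · exact absurd e (key w hwL hw)
      · exact e
    rcases K.mem_sub.1 ((hV _).1 (conjS _ (mul_mem hw hw) z hzS)) with e | e | e | e
    · exact absurd (by rwa [conj_eq_one_iff] at e) hz1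
    · exact hwS (S2431.mem_sylow_of_pow S hw (fix z hzS hz1 _ (mul_mem hw hw) e))
    · exact key _ (mul_mem hwL hwL) (mul_mem hw hw) e
    · refine hwS (fix _ (conjS w hw z hzS) (by simpa using hz1) w hw ?_)
      rw [← h3] at e
      exact Eq.trans (by group) e
  obtain ⟨O, hO, hO'⟩ := exists_odd_part S hSL fun w hwL hw s hs => hcomm s hs w (hNL w hwL hw)
  have hLO : L ≤ normalizer (O : Set G) := fun w hw => mem_normalizer_fintype fun y hy =>
    (hO _).2 ⟨mul_mem (mul_mem hw ((hO y).1 hy).1) (inv_mem hw), by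
      rw [← MulAut.conj_apply, MulEquiv.orderOf_eq]; exact ((hO y).1 hy).2⟩
  have hOS : ∀ y ∈ O, y ∈ S → y = 1 := fun y hy hyS => by
    have := orderOf_dvd_of_pow_eq_one (show y ^ 2 = 1 by rw [sq, hsq y hyS])
    exact orderOf_eq_one_iff.1 (Nat.eq_one_of_dvd_coprimes
      (Nat.coprime_two_right.2 ((hO y).1 hy).2) dvd_rfl this)
  by_cases hb : H ⊓ O = ⊥
  · have : H = S := le_antisymm (fun y hy => by
      obtain ⟨s, hs, h⟩ := hO' y (mem_sup_left hy)
      have : y * s⁻¹ ∈ H ⊓ O := mem_inf.2 ⟨H.mul_mem hy (H.inv_mem (hS hs)), h⟩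
      rw [hb, mem_bot, mul_inv_eq_one] at this
      exact this ▸ hs) hS
    refine ⟨1, one_mem _, ?_⟩
    rw [this]
    exact (mem_normalizer_iff_map_conj_eq.1 hg).trans
      (mem_normalizer_iff_map_conj_eq.1 (one_mem _)).symm
  exfalso
  have hSn : (S : Subgroup G) ≤ normalizer ((H ⊓ O : Subgroup G) : Set G) :=
    Solv.le_normalizer_inf (hS.trans le_normalizer) (hSL.trans hLO)
  obtain ⟨v, hv, hv1, x₀, hx₀, hx1, hxv⟩ := exists_fixed hb K (hSn hzS) (hSn (conjS g hg z hzS))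
  rw [← hV] at hv
  obtain ⟨r, hr, hrd⟩ := Nat.exists_prime_and_dvd (mt orderOf_eq_one_iff.1 hx1)
  have : Fact r.Prime := ⟨hr⟩
  obtain ⟨x, hx, hxr, hxv⟩ : ∃ x ∈ H ⊓ O, orderOf x = r ∧ x * v = v * x :=
    ⟨x₀ ^ (orderOf x₀ / r), pow_mem hx₀ _, orderOf_pow_orderOf_div (orderOf_pos _).ne' hrd,
      (Commute.pow_left hxv _).eq⟩
  have hcop : (Nat.card S).Coprime (Nat.card O) := by
    obtain ⟨k, hk⟩ := S.isPGroup'.exists_card_eq
    rw [hk]
    refine Nat.Coprime.pow_left _ ((Nat.Prime.coprime_iff_not_dvd Nat.prime_two).2 fun h => ?_)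
    obtain ⟨y, hy⟩ := exists_prime_orderOf_dvd_card' 2 h
    have := ((hO y).1 y.2).2
    rw [orderOf_coe, hy] at this
    exact absurd this (by decide)
  have hsolv : Group.IsSolvable S := by
    have := S.isPGroup'.isNilpotent
    infer_instance
  have key : ∀ v ∈ S, v ≠ 1 → ∀ x ∈ O, orderOf x = r → x * v = v * x →
      ∃ P : Sylow r O, (S : Subgroup G) ≤
        normalizer (((P : Subgroup O).map O.subtype : Subgroup G) : Set G) ∧
      ∀ y : P, y ∈ center P → (y : G) * v = v * y := by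
    intro v hv hv1 x hx hxr hxv
    obtain ⟨n, c, D⟩ := hD v hv1 (hsq v hv)
    have hxc : x ∈ zpowers c :=
      zpowers_le.2 (pow_mem (mem_zpowers c) 2) (D.mem_of_odd trivial hxv ((hO x).1 hx).2)
    obtain ⟨P, hP, hP'⟩ := Solv.exists_invariant_sylow_ge S O (hSL.trans hLO) hcop (Or.inl hsolv) r
      (zpowers x) (zpowers_le.2 hx) (isPGroup_zpowers_of_pow (a := 1) (by
        rw [pow_one, ← hxr, pow_orderOf_eq_one])) fun s hs => mem_normalizer_fintype (by
        rintro _ ⟨k, rfl⟩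
        change s * x ^ k * s⁻¹ ∈ zpowers x
        rw [← conj_zpow]
        refine zpow_mem ?_ _
        by_cases hsc : s ∈ zpowers c
        · obtain ⟨i, rfl⟩ := hsc
          obtain ⟨j, rfl⟩ := hxc
          rw [((Commute.refl c).zpow_zpow i j).eq, mul_inv_cancel_right]
          exact mem_zpowers _
        · rw [D.inv s trivial (hcomm s hs v hv) hsc x hxc]
          exact inv_mem (mem_zpowers x))
    refine ⟨P, hP', fun y hy => D.ti y trivial x hxc ?_ ?_⟩
    · rintro rfl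
      rw [orderOf_one] at hxr
      exact hr.one_lt.ne hxr
    · obtain ⟨x', hx', rfl⟩ := hP (mem_zpowers x)
      have : (x' : G) * y = y * x' :=
        congrArg (fun t : P => ((t : O) : G)) (mem_center_iff.1 hy ⟨x', hx'⟩)
      rwa [coe_subtype, ← this, mul_inv_cancel_right]
  obtain ⟨P, hP, h1⟩ := key v hv hv1 x hx.2 hxr hxv
  obtain ⟨P', hP', h2⟩ := key _ (conjS g hg v hv) (by simpa using hv1) (g * x * g⁻¹)
    ((hO _).2 ⟨mem_sup_right ⟨x, hx.1, rfl⟩, by
      rw [← MulAut.conj_apply, MulEquiv.orderOf_eq]; exact ((hO x).1 hx.2).2⟩)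
    (by rw [← MulAut.conj_apply, MulEquiv.orderOf_eq, hxr]) (by
      rw [conj_mul, conj_mul, hxv])
  have K' : KleinPair v (g * v * g⁻¹) :=
    ⟨hv1, by simpa using hv1, fun e => hgS (fix v hv hv1 g hg e.symm), hsq v hv,
      hsq _ (conjS g hg v hv), hcomm _ hv _ (conjS g hg v hv)⟩
  have hcent : ∀ y, y * v = v * y → y * (g * v * g⁻¹) = g * v * g⁻¹ * y → y ∈ S := fun y e1 e2 => by
    obtain ⟨n, c, D⟩ := hD v hv1 (hsq v hv)
    rcases K'.mem_sub.1 (D.cent_klein K' trivial trivial e1 e2) with rfl | rfl | rfl | rfl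
    exacts [one_mem _, hv, conjS g hg v hv, mul_mem hv (conjS g hg v hv)]
  obtain ⟨c, hc, rfl⟩ := Solv.invariant_sylow_conj S O (hSL.trans hLO) hcop (Or.inl hsolv) r P P'
    hP hP'
  obtain rfl : c = 1 := Subtype.ext (hOS c c.2 (hcent c (hc v hv).symm
    (hc _ (conjS g hg v hv)).symm))
  rw [one_smul] at h2
  have : Nontrivial P := by
    refine (nontrivial_iff_ne_bot _).2 (P.ne_bot_of_dvd_card ?_)
    rw [← hxr]
    exact O.orderOf_dvd_natCard hx.2
  have := P.isPGroup'.center_nontrivial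
  obtain ⟨y, hy⟩ := exists_ne (1 : center P)
  exact hy (Subtype.ext (Subtype.ext (Subtype.ext
    (hOS _ y.1.1.2 (hcent _ (h1 _ y.2) (h2 _ y.2))))))

end Dih

end Cfsg.Agent.Class.Pron
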